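/-
Weakly closed p-subgroups (`Cfsg.IsWeaklyClosedSubgroup`).
* `cj` : conjugate of a subgroup; `eq_of_le` : uniqueness inside any p-subgroup containing it
* `exists_conj_mem` : conjugates inside `K` are conjugate in `K`
* `le_normalizer_of_le` ; `stab` : stabiliser of a chain.
-/
import Cfsg.Agent.Lib.PReduced.Basic
import Cfsg.Agent.Lib.Cores.Subnormal

namespace Cfsg.Agent.WeaklyClosed

open Subgroup

variable {H : Type*} [Group H] {p : ℕ}

/-- The conjugate `g Q g⁻¹`. -/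
def cj (g : H) (Q : Subgroup H) : Subgroup H := Q.map (MulAut.conj g).toMonoidHom

theorem mem_cj {g x : H} {Q : Subgroup H} : x ∈ cj g Q ↔ g⁻¹ * x * g ∈ Q := by
  constructor
  · rintro ⟨q, hq, rfl⟩
    simpa [mul_assoc] using hq
  · intro h
    exact ⟨g⁻¹ * x * g, h, by simp [mul_assoc]⟩

theorem conj_mem_cj {g x : H} {Q : Subgroup H} (h : x ∈ Q) : g * x * g⁻¹ ∈ cj g Q :=
  ⟨x, h, rfl⟩

theorem cj_mul (a b : H) (Q : Subgroup H) : cj (a * b) Q = cj a (cj b Q) := by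
  ext x; rw [mem_cj, mem_cj, mem_cj]; simp [mul_assoc]

theorem cj_one (Q : Subgroup H) : cj 1 Q = Q := by
  ext x; rw [mem_cj]; simp

theorem cj_eq_self_iff {g : H} {Q : Subgroup H} :
    cj g Q = Q ↔ g ∈ normalizer (Q : Set H) :=
  Cores.conj_smul_eq_self_iff (H := Q)

theorem cj_of_mem {g : H} {Q : Subgroup H} (h : g ∈ normalizer (Q : Set H)) : cj g Q = Q :=
  cj_eq_self_iff.2 h

theorem cj_mono (g : H) {Q R : Subgroup H} (h : Q ≤ R) : cj g Q ≤ cj g R := map_mono h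

theorem cj_le_of_mem {g : H} {Q K : Subgroup H} (hQ : Q ≤ K) (hg : g ∈ K) : cj g Q ≤ K := by
  rintro _ ⟨q, hq, rfl⟩
  exact mul_mem (mul_mem hg (hQ hq)) (inv_mem hg)

/-- In a Sylow subgroup containing `Q`, `Q` is the only conjugate; hence in any `p`-subgroup. -/
theorem eq_of_le [Finite H] [Fact p.Prime] {Q R : Subgroup H}
    (hwc : Cfsg.IsWeaklyClosedSubgroup p Q) (hR : IsPGroup p ↥R) (hQR : Q ≤ R) {g : H}
    (hg : cj g Q ≤ R) : cj g Q = Q := by
  obtain ⟨T, -, hT⟩ := hwc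
  obtain ⟨P, hP⟩ := hR.exists_le_sylow
  obtain ⟨x, hx⟩ := MulAction.exists_smul_eq H P T
  have hx' : cj x (P : Subgroup H) = (T : Subgroup H) := congrArg Sylow.toSubgroup hx
  have h1 : cj x Q = Q := hT x (hx' ▸ cj_mono x (hQR.trans hP))
  have h2 : cj (x * g) Q = Q :=
    hT (x * g) (le_of_eq_of_le (cj_mul x g Q) (hx' ▸ cj_mono x (hg.trans hP)))
  rw [cj_mul] at h2
  exact map_injective (MulAut.conj x).injective (h2.trans h1.symm)

theorem le_normalizer_of_le [Finite H] [Fact p.Prime] {Q R : Subgroup H}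
    (hwc : Cfsg.IsWeaklyClosedSubgroup p Q) (hR : IsPGroup p ↥R) (hQR : Q ≤ R) :
    normalizer (R : Set H) ≤ normalizer (Q : Set H) := fun g hg =>
  cj_eq_self_iff.1 (eq_of_le hwc hR hQR
    ((cj_mono g hQR).trans (cj_of_mem hg).le))

theorem isPGroup_le [Finite H] [Fact p.Prime] {Q R : Subgroup H}
    (hwc : Cfsg.IsWeaklyClosedSubgroup p Q) (hR : IsPGroup p ↥R) (hQR : Q ≤ R) :
    R ≤ normalizer (Q : Set H) := le_normalizer.trans (le_normalizer_of_le hwc hR hQR)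

/-- A Sylow subgroup of `K` containing `Q`, as a subgroup of `H`. -/
theorem exists_sylow_in [Finite H] [Fact p.Prime] {Q K : Subgroup H} (hQp : IsPGroup p ↥Q)
    (hQK : Q ≤ K) : ∃ R : Sylow p ↥K, Q ≤ (R : Subgroup ↥K).map K.subtype := by
  obtain ⟨R, hR⟩ := (IsPGroup.comap_subtype (K := K) hQp).exists_le_sylow
  exact ⟨R, fun x hx => ⟨⟨x, hQK hx⟩, hR hx, rfl⟩⟩

theorem exists_conj_mem [Finite H] [Fact p.Prime] {Q K : Subgroup H} (hQp : IsPGroup p ↥Q)
    (hwc : Cfsg.IsWeaklyClosedSubgroup p Q) (hQK : Q ≤ K) {g : H} (hg : cj g Q ≤ K) :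
    ∃ k ∈ K, cj g Q = cj k Q := by
  obtain ⟨R, hR⟩ := exists_sylow_in hQp hQK
  obtain ⟨R', hR'⟩ := exists_sylow_in (hQp.map (MulAut.conj g).toMonoidHom) hg
  obtain ⟨k, hk⟩ := MulAction.exists_smul_eq ↥K R' R
  refine ⟨(k : H)⁻¹, inv_mem k.2, ?_⟩
  have h1 : cj (k : H) (cj g Q) ≤ (R : Subgroup ↥K).map K.subtype := by
    refine (cj_mono (k : H) hR').trans ?_
    rintro _ ⟨_, ⟨x, hx, rfl⟩, rfl⟩
    rw [← hk]
    exact ⟨k * x * k⁻¹, ⟨x, hx, rfl⟩, rfl⟩
  rw [← cj_mul] at h1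
  have h2 := eq_of_le hwc (R.2.map _) hR h1
  rw [cj_mul] at h2
  calc cj g Q = cj ((k : H)⁻¹ * k) (cj g Q) := by rw [inv_mul_cancel, cj_one]
    _ = cj (k : H)⁻¹ Q := by rw [cj_mul, h2]

/-- The elements normalising `P` and `A` and acting trivially on `P` modulo `A`. -/
def stab (P A : Subgroup H) : Subgroup H where
  carrier := {g | g ∈ normalizer (P : Set H) ∧ g ∈ normalizer (A : Set H) ∧
    ∀ u ∈ P, g * u * g⁻¹ * u⁻¹ ∈ A}
  one_mem' := ⟨one_mem _, one_mem _, fun u _ => by simp⟩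
  mul_mem' := fun {a b} ha hb => ⟨mul_mem ha.1 hb.1, mul_mem ha.2.1 hb.2.1, fun u hu => by
    have h1 := mul_mem (ha.2.2 _ ((mem_normalizer_iff.1 hb.1 u).1 hu)) (hb.2.2 u hu)
    convert h1 using 1; group⟩
  inv_mem' := fun {a} ha => ⟨inv_mem ha.1, inv_mem ha.2.1, fun u hu => by
    have h0 := (mem_normalizer_iff.1 (inv_mem ha.1) u).1 hu
    have h1 := inv_mem (ha.2.2 _ h0)
    convert h1 using 1; group⟩

theorem mem_stab {P A : Subgroup H} {g : H} :
    g ∈ stab P A ↔ g ∈ normalizer (P : Set H) ∧ g ∈ normalizer (A : Set H) ∧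
      ∀ u ∈ P, g * u * g⁻¹ * u⁻¹ ∈ A := Iff.rfl

theorem conj_mem_stab {P A : Subgroup H} {g c : H} (hg : g ∈ stab P A)
    (hP : c ∈ normalizer (P : Set H)) (hA : c ∈ normalizer (A : Set H)) :
    c * g * c⁻¹ ∈ stab P A := by
  obtain ⟨h1, h2, h3⟩ := hg
  refine ⟨mul_mem (mul_mem hP h1) (inv_mem hP), mul_mem (mul_mem hA h2) (inv_mem hA), fun u hu => ?_⟩
  have h4 := (mem_normalizer_iff.1 hA _).1 (h3 _ ((mem_normalizer_iff.1 (inv_mem hP) u).1 hu))
  convert h4 using 1; group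

/-- `normalizer` membership from one-sided invariance, in a finite group. -/
theorem mem_normalizer_of_cj_le [Finite H] {g : H} {A : Subgroup H} (h : cj g A ≤ A) :
    g ∈ normalizer (A : Set H) :=
  cj_eq_self_iff.1 (eq_of_le_of_card_ge h
    (Nat.card_congr (A.equivMapOfInjective _ (MulAut.conj g).injective).toEquiv).le)

end Cfsg.Agent.WeaklyClosed
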